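import Cfsg.Agent.H728.Four.HNTwentyOne
import Cfsg.Agent.H175.Ore.HNDeg
import Cfsg.Agent.H175.Ore.HNFus
import Cfsg.Agent.H970.CycOne
import Cfsg.Agent.H981.Ore.HNT1
import Cfsg.Agent.H547.SelfCent.Base

/-!
# Products of an element of order 11 and an element of order 19 of the Harada-Norton group (helper728)

* `prd_of_le` : `|C(g)| ≤ 78408` : `g` is a product of a conjugate of `x` (any element of order 11) and a conjugate of `y` (any
  element of order 19);
* `prd_real` : the same for a real element `g = z₁ z₂` with `z₁` of order 11 and `z₂` of order 19.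
-/

set_option autoImplicit false
set_option maxRecDepth 100000

namespace Cfsg.Agent.H728.TC.HNT

open Cfsg Subgroup
open Cfsg.Agent.Characters Cfsg.Agent.Characters.Core
open Cfsg.Agent.SmallSimple.ThetaSetup Cfsg.Agent.SmallSimple.ThetaOrtho
open Cfsg.Agent.SmallSimple.TheoremC Cfsg.Agent.SmallSimple.TheoremCCor
open Cfsg.Agent.SmallSimple.PrimeDual
open Cfsg.Agent.H65.Ore (one1 one1_apply Prd)

universe u

/-! ### The values at an element `a k` -/

section val

variable {G : Type u} [Group G] [Finite G] {p : ℕ} [hp : Fact p.Prime] {P : Sylow p G} {K : Subgroup G}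

/-- **The values at `a k`.** -/
theorem norm_le_one (hK : IsComp p (P : Subgroup G) K) (hP : Nat.card P = p)
    (he : (centralizer ((P : Subgroup G) : Set G)).relIndex (normalizer ((P : Subgroup G) : Set G)) = p - 1)
    {a : P} (ha : a ≠ 1) {k : K}
    (hst : ∀ θ : IrrCharacter K, (θ : K → ℂ) k ≠ 0 → ∀ n ∈ normalizer ((P : Subgroup G) : Set G), tw (θ : K → ℂ) n = θ)
    (hle : ∀ θ : IrrCharacter K, ‖(θ : K → ℂ) k‖ ≤ 1) (χ : IrrCharacter G) :
    ‖(χ : G → ℂ) (a * k)‖ ≤ 1 := by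
  classical
  by_cases h0 : (χ : G → ℂ) (a * k) = 0
  · rw [h0, norm_zero]; exact zero_le_one
  obtain ⟨θ, hθ, hθk⟩ := H529.Inv.Pair.exists_theta hK ha h0
  have : Finite (IrrCharacter K) := finite_irr
  have := Fintype.ofFinite (IrrCharacter K)
  have horb : orb P K (θ : K → ℂ) = {⟨θ, θ.2⟩} := orb_of_stable θ.2 fun n hn => hst θ hθk n hn
  have hval : (χ : G → ℂ) (a * k) = part (θ : K → ℂ) (χ : G → ℂ) a * (θ : K → ℂ) k := by
    rw [sum_part (isIrr_isClassFunction χ.2) (fun y hy => hK.comm a.2 hy)]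
    refine Finset.sum_eq_single θ (fun θ' _ hne => ?_) (fun h => absurd (Finset.mem_univ _) h)
    rw [part_eq_zero_of_not_mem_orb hK hP θ.2 hθ (by rw [horb, Finset.mem_singleton]; exact hne) ha, zero_mul]
  have hstab : Nat.card (stabAct hK (θ : K → ℂ)) = p - 1 := by
    have h := card_stabAct_mul_card_orb hK hP θ.2
    rw [horb, Finset.card_singleton, mul_one, he] at h
    exact h
  obtain ⟨NE, X, ε, d, S, hB, -, hNE, hX, hε, hd, hval1, hvalX, -, -, -⟩ :=
    theoremC hK hP θ.2 hstab (mul_one (p - 1))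
  have hpart : ‖part (θ : K → ℂ) (χ : G → ℂ) a‖ ≤ 1 := by
    rcases (hB χ).1 hθ with h | h
    · rw [hval1 χ h a ha]
      rcases hε χ h with h1 | h1 <;> rw [h1] <;> simp
    · obtain ⟨hSc, hS1, -, hSv⟩ := hvalX χ h
      rw [hSv a ha]
      have hfin := finite_dual hp.out hP
      have := Fintype.ofFinite (P →* ℂˣ)
      have hSu : S χ = Finset.univ.erase 1 := by
        refine Finset.eq_of_subset_of_card_le (fun l hl => Finset.mem_erase.2 ⟨fun h => hS1 (h ▸ hl), Finset.mem_univ _⟩) ?_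
        rw [hSc, Finset.card_erase_of_mem (Finset.mem_univ _), Finset.card_univ, ← Nat.card_eq_fintype_card,
          card_dual hp.out hP]
      have h1 := sum_dual_eq_zero hp.out hP ha
      rw [← Finset.add_sum_erase Finset.univ _ (Finset.mem_univ 1), ← hSu] at h1
      have h2 : (((1 : P →* ℂˣ) a : ℂˣ) : ℂ) = 1 := rfl
      rw [h2] at h1
      have h3 : ∑ l ∈ S χ, ((l a : ℂˣ) : ℂ) = -1 := by linear_combination h1
      rw [h3]
      rcases hd with h4 | h4 <;> rw [h4] <;> simp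
  rw [hval, norm_mul]
  exact mul_le_one₀ hpart (norm_nonneg _) (hle θ)

end val

/-! ### Order 11 -/

instance fin_HN : Finite Spor.HN := Cfsg.Agent.H981.InvHN.fin_HN

theorem card_HN : Nat.card Spor.HN = 273030912000000 := Cfsg.Agent.KFacts.HN.Classes.card_HN

/-- the list of the pairs -/
def wl : List (ℕ × ℤ) := [(0, 0), (1, 1), (10, -1)]

theorem num11 : H653.Sieve.numOK 273030912000000 11 2 10 1 wl 0 false = true := by decide +kernel

/-- the data of an element of order 11 -/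
theorem setup11 {x : Spor.HN} (hx : orderOf x = 11) :
    ∃ (P : Sylow 11 Spor.HN) (K : Subgroup Spor.HN), x ∈ (P : Subgroup Spor.HN) ∧ Nat.card P = 11 ∧
      IsComp 11 (P : Subgroup Spor.HN) K ∧ Nat.card K = 2 ∧
      (centralizer ((P : Subgroup Spor.HN) : Set Spor.HN)).relIndex (normalizer ((P : Subgroup Spor.HN) : Set Spor.HN)) =
        11 - 1 := by
  have : IsSimpleGroup Spor.HN := Cfsg.Agent.S1701.result.1
  have hp : Fact (Nat.Prime 11) := ⟨by norm_num⟩
  have hc : Nat.card (centralizer ({x} : Set Spor.HN)) = 11 * 2 := H175.Ore.HNFus.card_cent hx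
  obtain ⟨P, K, hxP, hP, hK, hKc, he, -, -⟩ := H529.Inv.Pair.setup H728.Four.HN21.not_comm card_HN hx hc 10 1 wl 0 false
    num11
  exact ⟨P, K, hxP, hP, hK, hKc, he⟩

/-- the elements of order 11 are conjugate -/
theorem conj11 {x y : Spor.HN} (hx : orderOf x = 11) (hy : orderOf y = 11) : IsConj x y := by
  have hp : Fact (Nat.Prime 11) := ⟨by norm_num⟩
  obtain ⟨P, K, -, hP, -, -, he⟩ := setup11 hx
  refine H970.CycOne.conj_of_relIndex 11 P hP he ?_ ?_ ⟨1, by rw [hx, pow_one]⟩ ⟨1, by rw [hy, pow_one]⟩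
  · intro h
    rw [h, orderOf_one] at hx
    norm_num at hx
  · intro h
    rw [h, orderOf_one] at hy
    norm_num at hy

theorem norm11 {x : Spor.HN} (hx : orderOf x = 11) (χ : IrrCharacter Spor.HN) : ‖(χ : Spor.HN → ℂ) x‖ ≤ 1 := by
  have hp : Fact (Nat.Prime 11) := ⟨by norm_num⟩
  obtain ⟨P, K, hxP, hP, hK, hKc, he⟩ := setup11 hx
  have ha : (⟨x, hxP⟩ : (P : Subgroup Spor.HN)) ≠ 1 := by
    intro h
    have h1 : x = 1 := congrArg Subtype.val h
    rw [h1, orderOf_one] at hx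
    norm_num at hx
  have hlin : ∀ θ : IrrCharacter K, ‖(θ : K → ℂ) 1‖ ≤ 1 := by
    intro θ
    have : Finite (IrrCharacter K) := finite_irr
    have := Fintype.ofFinite (IrrCharacter K)
    have h1 := H686.CharKit.sum_normSq (1 : K)
    have h2 : Nat.card (centralizer ({(1 : K)} : Set K)) ≤ 2 := by
      rw [← hKc]; exact Subgroup.card_le_card_group _
    have h3 := Finset.single_le_sum (f := fun χ : IrrCharacter K => Complex.normSq ((χ : K → ℂ) 1))
      (fun _ _ => Complex.normSq_nonneg _) (Finset.mem_univ θ)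
    rw [h1] at h3
    have h4 : (θ : K → ℂ) 1 = (charDegree (θ : K → ℂ) : ℂ) := (H686.CharKit.charDegree_irr θ).symm
    have h5 : Complex.normSq ((θ : K → ℂ) 1) = ((charDegree (θ : K → ℂ) ^ 2 : ℕ) : ℝ) := by
      rw [h4, Complex.normSq_natCast]; push_cast; ring
    simp only [h5] at h3
    have h6 : charDegree (θ : K → ℂ) ^ 2 ≤ 2 := le_trans (by exact_mod_cast h3) h2
    have h7 : charDegree (θ : K → ℂ) ≤ 1 := by nlinarith
    rw [h4, Complex.norm_natCast]
    exact_mod_cast h7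
  have hst : ∀ θ : IrrCharacter K, ∀ n ∈ normalizer ((P : Subgroup Spor.HN) : Set Spor.HN), tw (θ : K → ℂ) n = θ := by
    intro θ n hn
    funext y
    rw [tw_apply hK _ hn]
    refine congrArg (θ : K → ℂ) ?_
    by_cases hy : y = 1
    · subst hy
      apply Subtype.ext
      simp
    · obtain ⟨w, -, hw⟩ := (Nat.card_eq_two_iff' (1 : K)).1 hKc
      have h1 : ∀ z : K, z ≠ 1 → z = w := hw
      rw [h1 y hy]
      apply h1
      intro h2
      apply hy
      have h3 : n * (w : Spor.HN) * n⁻¹ = 1 := congrArg Subtype.val h2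
      rw [h1 y hy]
      exact Subtype.ext (conj_eq_one_iff.1 h3)
  have h := norm_le_one hK hP he ha (k := 1) (fun θ _ n hn => hst θ n hn) hlin χ
  simpa using h

/-! ### Order 19 -/

section inv

variable {G : Type*} [Group G] [Finite G]

/-- two classes of elements of order `p`, inverse to each other -/
theorem conj_or_inv (p : ℕ) [hp : Fact p.Prime] (P : Sylow p G) (hP : Nat.card (P : Subgroup G) = p) {e : ℕ}
    (he : (centralizer ((P : Subgroup G) : Set G)).relIndex (normalizer ((P : Subgroup G) : Set G)) = e)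
    (h2 : 2 * e = p - 1) (hodd : Odd e) {x y : G} (hx : orderOf x = p) (hy : orderOf y = p) :
    IsConj x y ∨ IsConj x y⁻¹ := by
  classical
  have hne : ∀ z : G, orderOf z = p → z ≠ 1 := by
    intro z hz h
    rw [h, orderOf_one] at hz
    exact hp.out.one_lt.ne hz
  have key : ∀ z : G, orderOf z = p → ∃ z' ∈ P, z' ≠ 1 ∧ IsConj z z' := by
    intro z hz
    have hZ : IsPGroup p (zpowers z) := IsPGroup.of_card (n := 1) (by rw [Nat.card_zpowers, hz, pow_one])
    obtain ⟨S, hS⟩ := hZ.exists_le_sylow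
    obtain ⟨g, hg⟩ := MulAction.exists_smul_eq G S P
    refine ⟨g * z * g⁻¹, ?_, ?_, isConj_iff.2 ⟨g, rfl⟩⟩
    · rw [← hg]
      exact Subgroup.smul_mem_pointwise_smul z (MulAut.conj g) (S : Subgroup G) (hS (mem_zpowers z))
    · intro h
      exact hne z hz (conj_eq_one_iff.1 h)
  obtain ⟨x', hx', hx1, hxx⟩ := key x hx
  obtain ⟨y', hy', hy1, hyy⟩ := key y hy
  have hp3 : p ≠ 2 := by
    rintro rfl
    obtain ⟨k, hk⟩ := hodd
    omega
  -- an element of `P` is not its own inverse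
  have hinv : ∀ z ∈ P, z ≠ 1 → z⁻¹ ≠ z := by
    intro z hz hz1 h
    have h3 : z ^ 2 = 1 := by rw [pow_two, ← eq_inv_iff_mul_eq_one, h]
    have h4 : orderOf z ∣ p := by
      rw [← hP]
      have := orderOf_dvd_natCard (⟨z, hz⟩ : (P : Subgroup G))
      rwa [Subgroup.orderOf_mk] at this
    have h5 : orderOf z ∣ 2 := orderOf_dvd_of_pow_eq_one h3
    rcases (Nat.dvd_prime hp.out).1 h4 with h6 | h6
    · exact hz1 (orderOf_eq_one_iff.1 h6)
    · rw [h6] at h5
      exact hp3 ((Nat.prime_dvd_prime_iff_eq hp.out Nat.prime_two).1 h5)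
  set O : G → Set G := fun z => {y : G | ∃ n ∈ normalizer ((P : Subgroup G) : Set G), n * z * n⁻¹ = y} with hO
  have hcard : ∀ z ∈ P, z ≠ 1 → (O z).ncard = e := fun z hz hz1 => (H970.CycOne.orbit_card hP hz hz1).trans he
  have hsub : ∀ z ∈ P, z ≠ 1 → O z ⊆ ((P : Subgroup G) : Set G) \ {1} := fun z hz hz1 => H970.CycOne.sub_compl hz hz1
  -- the two orbits are disjoint
  have hdisj : x'⁻¹ ∉ O x' := by
    rintro ⟨m, hm, hmx⟩
    have hclosed : ∀ z ∈ O x', z⁻¹ ∈ O x' := by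
      rintro _ ⟨n, hn, rfl⟩
      refine ⟨n * m, mul_mem hn hm, ?_⟩
      calc n * m * x' * (n * m)⁻¹ = n * (m * x' * m⁻¹) * n⁻¹ := by group
        _ = (n * x' * n⁻¹)⁻¹ := by rw [hmx]; group
    let f : Function.End ↥(O x') := fun z => ⟨(z : G)⁻¹, hclosed z z.2⟩
    have hfin : Finite ↥(O x') := Set.toFinite _
    have := Fintype.ofFinite ↥(O x')
    have h5 : Fintype.card ↥(O x') ≡ Fintype.card (Function.fixedPoints f) [MOD 2] := by
      have hf2 : f ^ 2 ^ 1 = 1 := by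
        funext z
        change f (f z) = z
        exact Subtype.ext (inv_inv _)
      exact Equiv.Perm.card_fixedPoints_modEq hf2
    have h6 : Fintype.card (Function.fixedPoints f) = 0 := by
      rw [Fintype.card_eq_zero_iff]
      refine ⟨fun z => ?_⟩
      have h7 : f z = z := z.2
      have h8 : ((z : ↥(O x')) : G)⁻¹ = (z : ↥(O x')) := congrArg Subtype.val h7
      have h9 := hsub x' hx' hx1 (z : ↥(O x')).2
      exact hinv _ h9.1 h9.2 h8
    rw [h6, ← Nat.card_eq_fintype_card, Nat.card_coe_set_eq, hcard x' hx' hx1] at h5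
    obtain ⟨k, hk⟩ := hodd
    have h10 : e % 2 = 0 := h5
    omega
  have hx'i : x'⁻¹ ∈ (P : Subgroup G) := inv_mem hx'
  have hx1i : x'⁻¹ ≠ 1 := fun h => hx1 (inv_eq_one.1 h)
  have hdis : Disjoint (O x') (O x'⁻¹) := by
    rw [Set.disjoint_left]
    rintro _ ⟨n, hn, rfl⟩ ⟨m, hm, hmx⟩
    apply hdisj
    refine ⟨m⁻¹ * n, mul_mem (inv_mem hm) hn, ?_⟩
    calc m⁻¹ * n * x' * (m⁻¹ * n)⁻¹ = m⁻¹ * (n * x' * n⁻¹) * m := by group
      _ = x'⁻¹ := by rw [← hmx]; group
  have hun : O x' ∪ O x'⁻¹ = ((P : Subgroup G) : Set G) \ {1} := by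
    apply Set.eq_of_subset_of_ncard_le (ht := Set.toFinite _)
    · exact Set.union_subset (hsub x' hx' hx1) (hsub x'⁻¹ hx'i hx1i)
    · rw [H970.CycOne.ncard_diff hP, Set.ncard_union_eq hdis, hcard x' hx' hx1, hcard x'⁻¹ hx'i hx1i]
      omega
  have hmem : y' ∈ O x' ∪ O x'⁻¹ := by rw [hun]; exact ⟨hy', hy1⟩
  rcases hmem with ⟨n, -, hn⟩ | ⟨n, -, hn⟩
  · left
    exact hxx.trans ((isConj_iff.2 ⟨n, hn⟩).trans hyy.symm)
  · right
    have h3 : IsConj x' y'⁻¹ := isConj_iff.2 ⟨n, by rw [← hn]; group⟩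
    have h4 : IsConj y⁻¹ y'⁻¹ := by
      obtain ⟨c, hc⟩ := isConj_iff.1 hyy
      exact isConj_iff.2 ⟨c, by rw [← hc]; group⟩
    exact hxx.trans (h3.trans h4.symm)

end inv

/-- the list of the pairs -/
def wl19 : List (ℕ × ℤ) := [(0, 0), (1, 2), (18, -2), (9, -1), (10, 1)]

theorem num19 : H653.Sieve.numOK 273030912000000 19 1 9 2 wl19 0 false = true := by decide +kernel

theorem cent19 {x : Spor.HN} (hx : orderOf x = 19) : Nat.card (centralizer ({x} : Set Spor.HN)) = 19 := by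
  have : IsSimpleGroup Spor.HN := Cfsg.Agent.S1701.result.1
  obtain ⟨x19, hx19, hc19⟩ := H845.HNNineteen.hn_nineteen
  rw [H547.SelfCent.card_cent_eq (r := 19) (by norm_num) (by rw [card_HN]; norm_num) hx hx19, hc19]

/-- the elements of order 19 are conjugate up to inverses -/
theorem conj19 {x y : Spor.HN} (hx : orderOf x = 19) (hy : orderOf y = 19) : IsConj x y ∨ IsConj x y⁻¹ := by
  have : IsSimpleGroup Spor.HN := Cfsg.Agent.S1701.result.1
  have hp : Fact (Nat.Prime 19) := ⟨by norm_num⟩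
  obtain ⟨P, K, -, hP, -, -, he, -, -⟩ := H529.Inv.Pair.setup H728.Four.HN21.not_comm card_HN hx (k := 1)
    (by rw [cent19 hx]) 9 2 wl19 0 false num19
  exact conj_or_inv 19 P hP he (by norm_num) (by decide) hx hy

/-! ### The two results -/

/-- **T1 for the pair `(11, 19)`.** -/
theorem prd_of_le {x y g : Spor.HN} (hx : orderOf x = 11) (hy : orderOf y = 19)
    (hg : Nat.card (centralizer ({g} : Set Spor.HN)) ≤ 78408) : Prd x y g := by
  refine H529.Inv.Pair.prd_pair (mx := 1) (cy := 19) (c := 78408) (d := 1188) (fun χ => ?_) (cent19 hy).le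
    (fun χ h1 _ h3 => ?_) hg (by norm_num)
  · rw [Nat.cast_one]
    exact pow_le_one₀ (norm_nonneg _) (norm11 hx χ)
  · refine H175.Ore.HNDeg.degOff_HN (S := Spor.HN) ⟨MulEquiv.refl _⟩ χ h1 fun h4 => h3 ?_
    exact H529.Inv.Pair.van_dz χ (q := 19) (c := 1) (by norm_num) (by rw [card_HN]; norm_num) (by rw [card_HN]; norm_num)
      (by rw [pow_one]; exact h4) (by rw [hy])

/-- **Real elements.** -/
theorem prd_real {g z₁ z₂ x y : Spor.HN} (hr : IsConj g g⁻¹) (e : g = z₁ * z₂) (h1 : orderOf z₁ = 11)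
    (h2 : orderOf z₂ = 19) (hx : orderOf x = 11) (hy : orderOf y = 19) : Prd x y g := by
  obtain ⟨a, ha⟩ := isConj_iff.1 (conj11 hx h1)
  rcases conj19 hy h2 with h | h
  · obtain ⟨b, hb⟩ := isConj_iff.1 h
    exact ⟨a, b, by rw [ha, hb, e]⟩
  · -- `g⁻¹ = z₂⁻¹ z₁⁻¹` is conjugate to `z₁⁻¹ z₂⁻¹`
    obtain ⟨b, hb⟩ := isConj_iff.1 h
    obtain ⟨a', ha'⟩ := isConj_iff.1 (conj11 hx (by rw [orderOf_inv, h1] : orderOf z₁⁻¹ = 11))
    obtain ⟨c, hc⟩ := isConj_iff.1 hr
    -- `g = c⁻¹ g⁻¹ c = c⁻¹ z₂⁻¹ z₁⁻¹ c = (c⁻¹ z₂⁻¹ z₁⁻¹ z₂ c) (c⁻¹ z₂⁻¹ c)`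
    refine ⟨c⁻¹ * z₂⁻¹ * a', c⁻¹ * b, ?_⟩
    have h3 : g = c⁻¹ * g⁻¹ * c := by rw [← hc]; group
    calc g = c⁻¹ * g⁻¹ * c := h3
      _ = c⁻¹ * z₂⁻¹ * z₁⁻¹ * c := by rw [e]; group
      _ = (c⁻¹ * z₂⁻¹) * z₁⁻¹ * (c⁻¹ * z₂⁻¹)⁻¹ * (c⁻¹ * z₂⁻¹ * c⁻¹⁻¹) := by group
      _ = (c⁻¹ * z₂⁻¹) * (a' * x * a'⁻¹) * (c⁻¹ * z₂⁻¹)⁻¹ * (c⁻¹ * (b * y * b⁻¹) * c⁻¹⁻¹) := by rw [ha', hb]
      _ = _ := by group

end Cfsg.Agent.H728.TC.HNT
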