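import Cfsg.Agent.H728.TC.HNWa
import Cfsg.Agent.H728.TC.HNWb

/-!
# Witnesses: products of an element of order 11 and an element of order 19 of the Harada-Norton group (helper728)

`Wit r` for representatives of the classes 2A, 2B, 3A, 3B and of the elements of order 5.
-/

set_option autoImplicit false

namespace Cfsg.Agent.H728.TC.HNWit

open Cfsg Subgroup
open Cfsg.Agent.CpAutHN.Tr (ew)
open Cfsg.Agent.CpAutHN.Alt
open Cfsg.Agent.CpAutHN.Pairs (tt S1 X1 X3 isConj_tt isConj_W0_of_tr order_S1)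
open Cfsg.Agent.HN.XWords (W0)
open Cfsg.Agent.H839.Rad.HN (A B C₁ D)
open Equiv.Perm (mem_alternatingGroup)

/-- a product of an element of order 11 and an element of order 19 -/
def Wit (r : Spor.HN) : Prop := ∃ z₁ z₂ : Spor.HN, orderOf z₁ = 11 ∧ orderOf z₂ = 19 ∧ r = z₁ * z₂

theorem Wit.conj {r s : Spor.HN} (h : Wit r) (hc : IsConj r s) : Wit s := by
  obtain ⟨a, b, ha, hb, rfl⟩ := h
  obtain ⟨c, rfl⟩ := isConj_iff.1 hc
  refine ⟨MulAut.conj c a, MulAut.conj c b, ?_, ?_, ?_⟩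
  · exact (MulEquiv.orderOf_eq _ _).trans ha
  · exact (MulEquiv.orderOf_eq _ _).trans hb
  · rw [← map_mul]
    rfl

theorem conj_of {l : List ℕ} (hl : ∀ i ∈ l, i < 10) {f g : Equiv.Perm (Fin 12)} (hf : f ∈ alternatingGroup (Fin 12))
    (hg : g ∈ alternatingGroup (Fin 12)) (h : g * wp l = f * g) : IsConj (ew l) (Φ ⟨f, hf⟩) := by
  rw [← Φ_wp hl]
  refine (isConj_iff.2 ⟨Φ ⟨g, hg⟩, ?_⟩ : IsConj (Φ ⟨wp l, wp_mem hl⟩) (Φ ⟨f, hf⟩))
  rw [mul_inv_eq_iff_eq_mul, ← map_mul, ← map_mul]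
  exact congrArg _ (Subtype.ext h)

theorem wit_tt : Wit tt := by
  have h := HNW1.w_2A
  rw [HNW1.r_2A] at h
  exact Wit.conj h (conj_of (by decide) (g := cy [1, 2, 5, 7, 9, 11, 3, 4, 6, 8, 10]) t2_mem
    (by rw [mem_alternatingGroup]; decide +kernel) (by decide +kernel))

/-- 2A -/
theorem wit_tau : Wit (HN.NormalH.ψ HN.H0Basic.τ) := wit_tt.conj isConj_tt

theorem wit_S1 : Wit S1 := by
  have h := HNW1.w_2B
  rw [HNW1.r_2B] at h
  exact Wit.conj h (conj_of (by decide) (g := cy [1, 2] * cy [5, 6, 8, 10] * cy [7, 9, 11]) s1_mem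
    (by rw [mem_alternatingGroup]; decide +kernel) (by decide +kernel))

/-- 2B -/
theorem wit_W0 : Wit W0 := wit_S1.conj (isConj_W0_of_tr order_S1 tr_s1)

/-- 3A -/
theorem wit_X1 : Wit X1 := by
  have h := HNW1.w_3A
  rw [HNW1.r_3A] at h
  exact Wit.conj h (conj_of (by decide) (g := cy [0, 9, 8, 7, 6, 5, 4, 3, 2]) x1_mem
    (by rw [mem_alternatingGroup]; decide +kernel) (by decide +kernel))

/-- 3B -/
theorem wit_X3 : Wit X3 := by
  have h := HNW1.w_3B
  rw [HNW1.r_3B] at h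
  exact Wit.conj h (conj_of (by decide) (g := cy [4, 6, 8, 9, 11, 7, 10]) x3_mem
    (by rw [mem_alternatingGroup]; decide +kernel) (by decide +kernel))

/-! ### order 5 -/

theorem wit_A : Wit A := by have h := HNW2.w_A; rwa [HNW2.r_A] at h
theorem wit_AA : Wit (A * A) := by have h := HNW2.w_A2; rwa [HNW2.r_A2] at h
theorem wit_D : Wit D := by have h := HNW2.w_D; rwa [HNW2.r_D] at h
theorem wit_C : Wit C₁ := by have h := HNW2.w_C; rwa [HNW2.r_C] at h
theorem wit_CC : Wit (C₁ * C₁) := by have h := HNW2.w_C2; rwa [HNW2.r_C2] at h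
theorem wit_BDD : Wit (B * (D * D)) := by have h := HNW2.w_BD2; rwa [HNW2.r_BD2] at h
theorem wit_BCCCD : Wit (B * (C₁ * (C₁ * (C₁ * D)))) := by have h := HNW2.w_BC3D; rwa [HNW2.r_BC3D] at h

end Cfsg.Agent.H728.TC.HNWit
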